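import Groth.Agent.TorKunneth.Tower

/-!
The filtration of the homology of a tensor product induced by the resolution.
-/

set_option autoImplicit false
set_option linter.style.haveILetI false
universe u

open CategoryTheory Limits MonoidalCategory HomologicalComplex
open scoped TensorProduct

namespace Groth.Agent.TorKunneth

variable {A : Type u} [CommRing A] (L : DRing.Cx A) (M : DRing.Cx A)

/-- The resolution. -/
noncomputable def tw : ℕ → DRing.Cx A
  | 0 => M
  | p + 1 => nxt (tw p)

/-- The sequence of homology modules of the defining sequence. -/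
noncomputable def hsc (j : ℤ) : ShortComplex (ModuleCat.{u} A) :=
  ShortComplex.mk (homologyMap (kernel.ι (φ M)) j) (homologyMap (φ M) j)
    (by rw [← homologyMap_comp, kernel.condition, homologyMap_zero])

theorem shortExact_hsc (j : ℤ) : (hsc M j).ShortExact where
  exact := (shortExact_stp M).homology_exact₂ j
  mono_f := by
    have h1 := (shortExact_stp M).homology_exact₁ (j - 1) j (by simp)
    refine h1.mono_g ?_
    haveI : Epi (homologyMap (stp M).g (j - 1)) := (ModuleCat.epi_iff_surjective _).2 (homologyMap_φ_surjective M _)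
    rw [← cancel_epi (homologyMap (stp M).g (j - 1)), comp_zero]
    exact (shortExact_stp M).comp_δ (j - 1) j (by simp)
  epi_g := (ModuleCat.epi_iff_surjective _).2 (homologyMap_φ_surjective M j)

theorem projective_hsc (j : ℤ) : Projective (hsc M j).X₂ := by
  haveI : Module.Projective A ((WF M).X j) :=
    inferInstanceAs (Module.Projective A (Fr (A := A) (M.homology j)))
  let e : (WF M).homology j ≃ₗ[A] (WF M).X j := LinearEquiv.ofLinearMap (clWInv (WF M) (WF_d M) j)
    (clW (WF M) (WF_d M) j) (LinearMap.ext (clWInv_clW (WF M) (WF_d M) j))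
    (LinearMap.ext (clW_clWInv (WF M) (WF_d M) j))
  have hp : Module.Projective A ((WC M).homology j) := Module.Projective.of_equiv
    ((LinearEquiv.ofBijective (homologyMap (pr M) j).hom (homologyMap_pr_bijective M j)).trans e).symm
  exact (IsProjective.iff_projective ((WC M).homology j)).1 hp

variable {L M}

/-- A kernel after tensoring is a `Tor₁`. -/
theorem nonempty_tor_one (H : ModuleCat.{u} A) {S : ShortComplex (ModuleCat.{u} A)} (hS : S.ShortExact)
    [Projective S.X₂] :
    Nonempty (DRing.Tor A 1 H S.X₃ ≃ₗ[A] LinearMap.ker (S.f.hom.lTensor H)) := by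
  obtain ⟨δ, w₁, w₂, h₁, h₂⟩ := (TorBalance.exists_les H hS 0).2
  haveI : PreservesFiniteColimits ((tensoringLeft (ModuleCat.{u} A)).obj H) :=
    inferInstanceAs (PreservesFiniteColimits (tensorLeft H))
  let e : (Tor (ModuleCat.{u} A) 0).obj H ≅ (tensoringLeft (ModuleCat.{u} A)).obj H :=
    ((tensoringLeft (ModuleCat.{u} A)).obj H).leftDerivedZeroIsoSelf
  have hnat : ∀ x, e.hom.app S.X₂ (((Tor (ModuleCat.{u} A) 0).obj H).map S.f x) =
      S.f.hom.lTensor H (e.hom.app S.X₁ x) := fun x => congrArg (fun ψ => ψ.hom x) (e.hom.naturality S.f)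
  have hbij : ∀ X, Function.Bijective (e.hom.app X) := fun X => ConcreteCategory.bijective_of_isIso _
  let θ : DRing.Tor A 1 H S.X₃ →ₗ[A] LinearMap.ker (S.f.hom.lTensor H) :=
    ((e.hom.app S.X₁).hom ∘ₗ δ.hom).codRestrict _ fun x => by
      show S.f.hom.lTensor H (e.hom.app S.X₁ (δ x)) = 0
      rw [← hnat]
      exact (congrArg (fun z => e.hom.app S.X₂ z) (congrArg (fun ψ => ψ.hom x) w₂)).trans (map_zero _)
  refine ⟨LinearEquiv.ofBijective θ ⟨fun a b hab => ?_, fun y => ?_⟩⟩
  · exact (ModuleCat.mono_iff_injective _).1 (h₁.mono_g ((CategoryTheory.isZero_Tor_succ_of_projective (C := ModuleCat.{u} A) H S.X₂ 0).eq_of_src _ _))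
      ((hbij S.X₁).1 (congrArg Subtype.val hab))
  · obtain ⟨x, hx⟩ := (hbij S.X₁).2 y.1
    obtain ⟨t, ht⟩ := ((ShortComplex.moduleCat_exact_iff _).1 h₂) x ((hbij S.X₂).1 (by
      refine (hnat x).trans ?_
      rw [hx, map_zero]
      exact y.2))
    refine ⟨t, Subtype.ext ?_⟩
    show e.hom.app S.X₁ (δ t) = y.1
    exact (congrArg (fun z => e.hom.app S.X₁ z) ht).trans hx

theorem nonempty_tor_shift (H : ModuleCat.{u} A) {S : ShortComplex (ModuleCat.{u} A)} (hS : S.ShortExact)
    [Projective S.X₂] (q : ℕ) : Nonempty (DRing.Tor A (q + 1 + 1) H S.X₃ ≃ₗ[A] DRing.Tor A (q + 1) H S.X₁) := by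
  obtain ⟨δ, w₁, w₂, h₁, h₂⟩ := (TorBalance.exists_les H hS (q + 1)).2
  exact ⟨LinearEquiv.ofBijective δ.hom ⟨
    (ModuleCat.mono_iff_injective _).1 (h₁.mono_g ((CategoryTheory.isZero_Tor_succ_of_projective (C := ModuleCat.{u} A) H S.X₂ (q + 1)).eq_of_src _ _)),
    (ModuleCat.epi_iff_surjective _).1 (h₂.epi_f ((CategoryTheory.isZero_Tor_succ_of_projective (C := ModuleCat.{u} A) H S.X₂ q).eq_of_tgt _ _))⟩⟩

variable (L M)

theorem nonempty_tor_tw (H : ModuleCat.{u} A) (j : ℤ) :
    ∀ p q : ℕ, Nonempty (DRing.Tor A (q + 1) H ((tw M p).homology j) ≃ₗ[A] DRing.Tor A (q + p + 1) H (M.homology j))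
  | 0, q => ⟨LinearEquiv.refl A _⟩
  | p + 1, q => by
    haveI := projective_hsc (tw M p) j
    obtain ⟨e₁⟩ := nonempty_tor_shift H (shortExact_hsc (tw M p) j) q
    obtain ⟨e₂⟩ := nonempty_tor_tw H j p (q + 1)
    rw [show q + (p + 1) + 1 = q + 1 + p + 1 by omega]
    exact ⟨e₁.symm.trans e₂⟩

theorem nonempty_ker_tor (i j : ℤ) (p : ℕ) :
    Nonempty (LinearMap.ker ((homologyMap (kernel.ι (φ (tw M p))) j).hom.lTensor (L.homology i)) ≃ₗ[A]
      DRing.Tor A (p + 1) (L.homology i) (M.homology j)) := by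
  haveI := projective_hsc (tw M p) j
  obtain ⟨e₁⟩ := nonempty_tor_one (L.homology i) (shortExact_hsc (tw M p) j)
  obtain ⟨e₂⟩ := nonempty_tor_tw M (L.homology i) j p 0
  rw [show 0 + p + 1 = p + 1 by omega] at e₂
  exact ⟨e₁.symm.trans e₂⟩

theorem isZero_homology_tw (b : ℤ) (hb : ∀ j, b < j → IsZero (M.homology j)) :
    ∀ (p : ℕ) (j : ℤ), b < j → IsZero ((tw M p).homology j)
  | 0, j, hj => hb j hj
  | p + 1, j, hj => by
    have ih := isZero_homology_tw b hb p j hj
    haveI := ModuleCat.subsingleton_of_isZero ih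
    haveI : Subsingleton ((WC (tw M p)).homology j) := by
      haveI : Subsingleton ((WF (tw M p)).X j) := subsingleton_fr (A := A) ((tw M p).homology j)
      haveI : Subsingleton ((WF (tw M p)).homology j) := (cl_surjective (WF (tw M p)) j).subsingleton
      exact (homologyMap_pr_bijective (tw M p) j).1.subsingleton
    haveI := (shortExact_hsc (tw M p) j).mono_f
    haveI : Subsingleton ((nxt (tw M p)).homology j) :=
      ((ModuleCat.mono_iff_injective (hsc (tw M p) j).f).1 inferInstance).subsingleton (β := (WC (tw M p)).homology j)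
    exact ModuleCat.isZero_of_subsingleton ((nxt (tw M p)).homology j)

variable {L M} (hL : DRing.TermwiseFlat L) (hK : DRingKP.IsKFlat L) (n : ℤ)

/-- The iterated connecting map. -/
noncomputable def δiter : ∀ p : ℕ,
    (HTor.tensorCx L M).homology n →ₗ[A] (HTor.tensorCx L (tw M p)).homology (n + (p : ℤ))
  | 0 => (eqToHom (congrArg (fun m => (HTor.tensorCx L M).homology m) (by simp : n = n + ((0 : ℕ) : ℤ)))).hom
  | p + 1 => ((shortExact_tens_stp (tw M p) L hL).δ (n + (p : ℤ)) (n + ((p + 1 : ℕ) : ℤ))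
      (by simp [add_assoc])).hom ∘ₗ δiter p

/-- The filtration. -/
noncomputable def fil (p : ℕ) : Submodule A ((HTor.tensorCx L M).homology n) :=
  LinearMap.ker (δiter (M := M) hL n (p + 1))

theorem δiter_succ (p : ℕ) (x : (HTor.tensorCx L M).homology n) :
    δiter (M := M) hL n (p + 1) x =
      (shortExact_tens_stp (tw M p) L hL).δ (n + (p : ℤ)) (n + ((p + 1 : ℕ) : ℤ)) (by simp [add_assoc])
        (δiter (M := M) hL n p x) := rfl

include hK in
theorem ker_δ (X : DRing.Cx A) (i j : ℤ) (h : (ComplexShape.up ℤ).Rel i j) :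
    LinearMap.ker ((shortExact_tens_stp X L hL).δ i j h).hom = LinearMap.range (kMap L X i) := by
  rw [← range_map_φ X L hK i]
  exact (((shortExact_tens_stp X L hL).homology_exact₃ i j h).moduleCat_range_eq_ker).symm

theorem range_δ (X : DRing.Cx A) (i j : ℤ) (h : (ComplexShape.up ℤ).Rel i j) :
    LinearMap.range ((shortExact_tens_stp X L hL).δ i j h).hom =
      LinearMap.ker (homologyMap (HomologicalComplex.tensorHom (𝟙 L) (kernel.ι (φ X))) j).hom :=
  ((shortExact_tens_stp X L hL).homology_exact₁ i j h).moduleCat_range_eq_ker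

theorem δiter_zero_injective : Function.Injective (δiter (M := M) hL n 0) :=
  (ModuleCat.mono_iff_injective _).1 inferInstance

include hK in
theorem fil_zero : fil (M := M) hL n 0 = LinearMap.range (kMap L M n) := by
  rw [← ker_δ hL hK M n (n + ((0 + 1 : ℕ) : ℤ)) (by simp)]
  ext x
  show δiter (M := M) hL n (0 + 1) x = 0 ↔ _
  rw [δiter_succ]
  have key : ∀ (m : ℤ) (hm : n = m) (h : (ComplexShape.up ℤ).Rel m (n + ((0 + 1 : ℕ) : ℤ)))
      (h' : (ComplexShape.up ℤ).Rel n (n + ((0 + 1 : ℕ) : ℤ))),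
      (shortExact_tens_stp M L hL).δ m (n + ((0 + 1 : ℕ) : ℤ)) h
        ((eqToHom (congrArg (fun k => (HTor.tensorCx L M).homology k) hm)) x) =
      (shortExact_tens_stp M L hL).δ n (n + ((0 + 1 : ℕ) : ℤ)) h' x := by
    rintro m rfl h h'
    rfl
  exact Eq.congr_left (key (n + ((0 : ℕ) : ℤ)) (by simp) (by simp) (by simp))

theorem fil_mono : Monotone (fil (M := M) hL n) := monotone_nat_of_le_succ fun p x hx => by
  show δiter (M := M) hL n (p + 1 + 1) x = 0
  rw [δiter_succ, show δiter (M := M) hL n (p + 1) x = 0 from hx]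
  exact map_zero _

include hK in
theorem isSubquotient_gr (p : ℕ) :
    HTor.IsSubquotient A (HTor.grSucc (fil (M := M) hL n) p) (HTor.TorSum L M n (p + 1)) := by
  classical
  let m : ℤ := n + ((p + 1 : ℕ) : ℤ)
  let X := tw M p
  let κ : ∀ ij : HTor.Antidiag m, Submodule A (L.homology ij.1.1 ⊗[A] (nxt X).homology ij.1.2) :=
    fun ij => LinearMap.ker ((homologyMap (kernel.ι (φ X)) ij.1.2).hom.lTensor (L.homology ij.1.1))
  -- the sum of the kernels is the Tor sum
  let σ : HTor.Antidiag m ≃ {ij : ℤ × ℤ // ij.1 + ij.2 - ((p + 1 : ℕ) : ℤ) = n} :=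
    Equiv.subtypeEquivRight fun ij => by simp only [m]; omega
  let Θ : (DirectSum (HTor.Antidiag m) fun ij => κ ij) ≃ₗ[A] HTor.TorSum L M n (p + 1) :=
    (DirectSum.lequivCongrLeft A σ).trans
      (DFinsupp.mapRange.linearEquiv fun ij => (nonempty_ker_tor L M ij.1.1 ij.1.2 p).some)
  let j : (DirectSum (HTor.Antidiag m) fun ij => κ ij) →ₗ[A] HTor.KunnethSum L (nxt X) m :=
    DirectSum.lmap fun ij => (κ ij).subtype
  let D : (HTor.tensorCx L M).homology n →ₗ[A] (HTor.tensorCx L (nxt X)).homology m := δiter (M := M) hL n (p + 1)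
  let g : HTor.TorSum L M n (p + 1) →ₗ[A] (HTor.tensorCx L (nxt X)).homology m :=
    kMap L (nxt X) m ∘ₗ j ∘ₗ Θ.symm.toLinearMap
  let G : Submodule A ((HTor.tensorCx L (nxt X)).homology m) := (fil (M := M) hL n (p + 1)).map D
  have hG : ∀ y ∈ G, ∃ t, g t = y := by
    rintro _ ⟨x, hx, rfl⟩
    have hx1 : D x ∈ LinearMap.range (kMap L (nxt X) m) := by
      rw [← ker_δ hL hK (nxt X) m (n + ((p + 1 + 1 : ℕ) : ℤ)) (by simp [m, add_assoc])]
      exact (δiter_succ (M := M) hL n (p + 1) x).symm.trans hx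
    obtain ⟨s, hs⟩ := hx1
    have hx2 : D x ∈ LinearMap.range ((shortExact_tens_stp X L hL).δ (n + (p : ℤ)) m (by simp [m, add_assoc])).hom :=
      ⟨δiter (M := M) hL n p x, (δiter_succ (M := M) hL n p x).symm⟩
    have hx3 : homologyMap (HomologicalComplex.tensorHom (𝟙 L) (kernel.ι (φ X))) m (D x) = 0 :=
      (range_δ hL X _ m _).le hx2
    rw [← hs] at hx3
    have h0 : sumMap L (kernel.ι (φ X)) m s = 0 := by
      refine (kMap_WC_bijective X L hK m).1 ?_
      rw [map_zero, ← map_kMap]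
      exact hx3
    have hcomp : ∀ ij, s ij ∈ κ ij := fun ij => congrArg (fun t : DirectSum _ _ => t ij) h0
    have hrange : s ∈ LinearMap.range j := by
      refine ⟨DFinsupp.mk (β := fun ij => κ ij) s.support fun ij => ⟨s ij.1, hcomp ij.1⟩, DFinsupp.ext fun ij => ?_⟩
      show (κ ij).subtype (DFinsupp.mk (β := fun ij => κ ij) s.support (fun ij => ⟨s ij.1, hcomp ij.1⟩) ij) = s ij
      rw [DFinsupp.mk_apply]
      split_ifs with h
      · rfl
      · rw [map_zero]; exact (DFinsupp.notMem_support_iff.1 h).symm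
    obtain ⟨w, hw⟩ := hrange
    refine ⟨Θ w, ?_⟩
    show kMap L (nxt X) m (j (Θ.symm (Θ w))) = D x
    rw [Θ.symm_apply_apply, hw, hs]
  let ψ : G.comap g →ₗ[A] G := g.restrict fun t ht => ht
  have hψ : Function.Surjective ψ := fun y => by
    obtain ⟨t, ht⟩ := hG y.1 y.2
    exact ⟨⟨t, show g t ∈ G from ht.symm ▸ y.2⟩, Subtype.ext ht⟩
  have hker : Submodule.comap (G.comap g).subtype (LinearMap.ker g) = LinearMap.ker ψ := by
    ext t
    rw [Submodule.mem_comap, LinearMap.mem_ker, LinearMap.mem_ker, ← Submodule.coe_eq_zero]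
    rfl
  let ψ' : fil (M := M) hL n (p + 1) →ₗ[A] G := D.restrict fun x hx => Submodule.mem_map_of_mem hx
  have hψ' : Function.Surjective ψ' := by
    rintro ⟨_, x, hx, rfl⟩
    exact ⟨⟨x, hx⟩, rfl⟩
  have hker' : Submodule.comap (fil (M := M) hL n (p + 1)).subtype (fil (M := M) hL n p) = LinearMap.ker ψ' := by
    ext t
    rw [Submodule.mem_comap, LinearMap.mem_ker, ← Submodule.coe_eq_zero]
    rfl
  refine ⟨LinearMap.ker g, G.comap g, fun t ht => ?_, ⟨?_⟩⟩
  · show g t ∈ G
    rw [show g t = 0 from ht]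
    exact zero_mem _
  · let e₁ := LinearMap.quotKerEquivOfSurjective (R := A) (M := fil (M := M) hL n (p + 1)) (M₂ := G) ψ' hψ'
    let e₂ := LinearMap.quotKerEquivOfSurjective (R := A) (M := G.comap g) (M₂ := G) ψ hψ
    exact (Submodule.quotEquivOfEq _ _ hker').trans (e₁.trans (e₂.symm.trans (Submodule.quotEquivOfEq _ _ hker.symm)))

theorem isZero_tensor_of_vanish (hK : DRingKP.IsKFlat L) (X : DRing.Cx A) (bL c : ℤ) (hbL : DRing.VanishesAbove L bL)
    (hX : ∀ j, c < j → IsZero (X.homology j)) (m : ℤ) (hm : bL + c < m) :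
    IsZero ((HTor.tensorCx L X).homology m) := by
  haveI : CochainComplex.IsLE X c := (CochainComplex.isLE_iff X c).2 fun i hi =>
    (HomologicalComplex.exactAt_iff_isZero_homology X i).2 (hX i hi)
  haveI : QuasiIso (CochainComplex.ιTruncLE X c) := (CochainComplex.quasiIso_ιTruncLE_iff X c).2 inferInstance
  haveI := quasiIso_tens L hK (CochainComplex.ιTruncLE X c)
  refine IsZero.of_iso ?_ (asIso (homologyMap (HomologicalComplex.tensorHom (𝟙 L) (CochainComplex.ιTruncLE X c)) m)).symm
  have hz : IsZero ((HTor.tensorCx L (CochainComplex.truncLE X c)).X m) := by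
    refine (IsZero.iff_id_eq_zero _).2 (mapBifunctor.hom_ext fun i j (hij : i + j = m) => ?_)
    refine IsZero.eq_of_src ?_ _ _
    by_cases hi : bL < i
    · haveI := ModuleCat.subsingleton_of_isZero (hbL i hi)
      exact (((curriedTensor (ModuleCat.{u} A)).flip.obj _).map_isZero (hbL i hi))
    · exact ((curriedTensor (ModuleCat.{u} A)).obj _).map_isZero
        (CochainComplex.isZero_of_isStrictlyLE (CochainComplex.truncLE X c) c j (by omega))
  exact ShortComplex.isZero_homology_of_isZero_X₂ _ hz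

include hK in
theorem exists_fil_eq_top (bL bM : ℤ) (hbL : DRing.VanishesAbove L bL) (hbM : ∀ j, bM < j → IsZero (M.homology j)) :
    ∃ N, fil (M := M) hL n N = ⊤ := by
  refine ⟨(bL + bM - n).toNat, eq_top_iff.2 fun x _ => ?_⟩
  have hz := isZero_tensor_of_vanish hK (tw M ((bL + bM - n).toNat + 1)) bL bM hbL
    (isZero_homology_tw M bM hbM _) (n + (((bL + bM - n).toNat + 1 : ℕ) : ℤ)) (by omega)
  haveI := ModuleCat.subsingleton_of_isZero hz
  exact Subsingleton.elim _ _

include hL hK in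
theorem kMap_surjective_of_tor (bL bM : ℤ) (hbL : DRing.VanishesAbove L bL) (hbM : ∀ j, bM < j → IsZero (M.homology j))
    (hT : ∀ p : ℕ, Subsingleton (HTor.TorSum L M n (p + 1))) : Function.Surjective (kMap L M n) := by
  obtain ⟨N, hN⟩ := exists_fil_eq_top (M := M) hL hK n bL bM hbL hbM
  have hstep : ∀ p, fil (M := M) hL n p = fil (M := M) hL n 0 := by
    intro p
    induction p with
    | zero => rfl
    | succ p ih =>
      refine (le_antisymm (fun x hx => ?_) (fil_mono (M := M) hL n p.le_succ)).trans ih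
      obtain ⟨S, S', -, ⟨e⟩⟩ := isSubquotient_gr (M := M) hL hK n p
      haveI := hT p
      haveI : Subsingleton (HTor.grSucc (fil (M := M) hL n) p) := e.injective.subsingleton
      exact (Submodule.Quotient.mk_eq_zero (Submodule.comap (fil (M := M) hL n (p + 1)).subtype (fil (M := M) hL n p))
        (x := (⟨x, hx⟩ : fil (M := M) hL n (p + 1)))).1 (Subsingleton.elim
        (Submodule.Quotient.mk (⟨x, hx⟩ : fil (M := M) hL n (p + 1))) (0 : HTor.grSucc (fil (M := M) hL n) p))
  rw [← LinearMap.range_eq_top, ← fil_zero hL hK, ← hstep N, hN]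

end Groth.Agent.TorKunneth
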