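import Mathlib
import Groth.Prelude.Def_HTor
import Groth.Agent.FlatCx.Homology

/-!
The Künneth map of two complexes of modules, elementwise.
-/

set_option autoImplicit false
set_option linter.style.haveILetI false
universe u

open CategoryTheory Limits MonoidalCategory HomologicalComplex
open scoped TensorProduct

namespace Groth.Agent.TorKunneth

variable {A : Type u} [CommRing A]

section Homology

variable (K : DRing.Cx A)

/-- The class of a cycle. -/
noncomputable def cl (i : ℤ) : LinearMap.ker (K.d i (i + 1)).hom →ₗ[A] K.homology i :=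
  (K.homologyπ i).hom ∘ₗ
    (K.liftCycles (ModuleCat.ofHom (LinearMap.ker (K.d i (i + 1)).hom).subtype) (i + 1) (CochainComplex.next ℤ i)
      (ModuleCat.hom_ext (LinearMap.ext fun z => z.2))).hom

theorem cl_spec (i : ℤ) (z : LinearMap.ker (K.d i (i + 1)).hom) (w : K.cycles i) (hw : K.iCycles i w = z.1) :
    cl K i z = K.homologyπ i w := by
  show K.homologyπ i _ = _
  congr 1
  apply FlatCx.iCycles_injective K
  rw [hw, ← ConcreteCategory.comp_apply, liftCycles_i]
  rfl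

theorem exists_cycle (i : ℤ) (z : LinearMap.ker (K.d i (i + 1)).hom) : ∃ w : K.cycles i, K.iCycles i w = z.1 :=
  FlatCx.exists_cycles K (CochainComplex.next ℤ i) z.1 z.2

theorem cl_surjective (i : ℤ) : Function.Surjective (cl K i) := fun h => by
  obtain ⟨w, rfl⟩ := FlatCx.homologyπ_surjective K h
  exact ⟨⟨K.iCycles i w, FlatCx.d_iCycles K w⟩, cl_spec K i _ w rfl⟩

theorem cl_eq_zero_iff (i j : ℤ) (h : j + 1 = i) (z : LinearMap.ker (K.d i (i + 1)).hom) :
    cl K i z = 0 ↔ z.1 ∈ LinearMap.range (K.d j i).hom := by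
  obtain ⟨w, hw⟩ := exists_cycle K i z
  rw [cl_spec K i z w hw, FlatCx.homologyπ_eq_zero_iff K ((ComplexShape.up ℤ).prev_eq' h), hw]

variable {K} {L : DRing.Cx A}

theorem map_cl (f : K ⟶ L) (i : ℤ) (z : LinearMap.ker (K.d i (i + 1)).hom) (z' : LinearMap.ker (L.d i (i + 1)).hom)
    (hz : z'.1 = f.f i z.1) : homologyMap f i (cl K i z) = cl L i z' := by
  obtain ⟨w, hw⟩ := exists_cycle K i z
  rw [cl_spec K i z w hw, FlatCx.homologyMap_homologyπ]
  refine (cl_spec L i z' _ ?_).symm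
  rw [FlatCx.iCycles_cyclesMap, hw, hz]

theorem hom_comm (f : K ⟶ L) (i j : ℤ) (x : K.X i) : L.d i j (f.f i x) = f.f j (K.d i j x) := by
  rw [← ConcreteCategory.comp_apply, ← ConcreteCategory.comp_apply, f.comm i j]

theorem d_d_apply (K : DRing.Cx A) (i j k : ℤ) (x : K.X i) : K.d j k (K.d i j x) = 0 := by
  rw [← ConcreteCategory.comp_apply, K.d_comp_d]
  rfl

end Homology

section Tensor

variable (L M : DRing.Cx A)

/-- Inclusion of a summand into the tensor product of two complexes. -/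
noncomputable def ι (i j n : ℤ) (h : i + j = n) : L.X i ⊗[A] M.X j →ₗ[A] (HTor.tensorCx L M).X n :=
  (ιTensorObj L M i j n h).hom

theorem d_ι (i j n : ℤ) (h : i + j = n) (x : L.X i) (y : M.X j) :
    (HTor.tensorCx L M).d n (n + 1) (ι L M i j n h (x ⊗ₜ y)) =
      ι L M (i + 1) j (n + 1) (by omega) (L.d i (i + 1) x ⊗ₜ y) +
        ((i.negOnePow : ℤˣ) : ℤ) • ι L M i (j + 1) (n + 1) (by omega) (x ⊗ₜ M.d j (j + 1) y) := by
  have key : ιTensorObj L M i j n h ≫ (HTor.tensorCx L M).d n (n + 1) =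
      mapBifunctor.d₁ L M (curriedTensor (ModuleCat.{u} A)) (ComplexShape.up ℤ) i j (n + 1) +
        mapBifunctor.d₂ L M (curriedTensor (ModuleCat.{u} A)) (ComplexShape.up ℤ) i j (n + 1) := by
    rw [mapBifunctor.d_eq, Preadditive.comp_add, mapBifunctor.ι_D₁, mapBifunctor.ι_D₂]
  rw [mapBifunctor.d₁_eq L M _ _ (rfl : (ComplexShape.up ℤ).Rel i (i + 1)) j (n + 1) (show i + 1 + j = n + 1 by omega),
    mapBifunctor.d₂_eq L M _ _ i (rfl : (ComplexShape.up ℤ).Rel j (j + 1)) (n + 1) (show i + (j + 1) = n + 1 by omega)] at key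
  have h1 := congrArg (fun φ => φ.hom (x ⊗ₜ[A] y)) key
  rw [show ComplexShape.ε₁ (ComplexShape.up ℤ) (ComplexShape.up ℤ) (ComplexShape.up ℤ) (i, j) = (1 : ℤˣ) from rfl,
    show ComplexShape.ε₂ (ComplexShape.up ℤ) (ComplexShape.up ℤ) (ComplexShape.up ℤ) (i, j) = i.negOnePow from rfl] at h1
  simp only [one_smul, Units.smul_def] at h1
  exact h1

theorem map_ι {M' : DRing.Cx A} (f : M ⟶ M') (i j n : ℤ) (h : i + j = n) (x : L.X i) (y : M.X j) :
    (HomologicalComplex.tensorHom (𝟙 L) f).f n (ι L M i j n h (x ⊗ₜ y)) = ι L M' i j n h (x ⊗ₜ f.f j y) := by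
  have key := ι_mapBifunctorMap (𝟙 L) f (curriedTensor (ModuleCat.{u} A)) (ComplexShape.up ℤ) i j n h
  exact congrArg (fun φ => φ.hom (x ⊗ₜ[A] y)) key

theorem ι_mem_ker (i j n : ℤ) (h : i + j = n) (x : LinearMap.ker (L.d i (i + 1)).hom)
    (y : LinearMap.ker (M.d j (j + 1)).hom) :
    ι L M i j n h (x.1 ⊗ₜ y.1) ∈ LinearMap.ker ((HTor.tensorCx L M).d n (n + 1)).hom := by
  show (HTor.tensorCx L M).d n (n + 1) (ι L M i j n h (x.1 ⊗ₜ y.1)) = 0
  rw [d_ι, show L.d i (i + 1) x.1 = 0 from x.2, show M.d j (j + 1) y.1 = 0 from y.2]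
  simp

/-- The product of two cycles, as a bilinear map to homology. -/
noncomputable def prodCl (i j n : ℤ) (h : i + j = n) :
    LinearMap.ker (L.d i (i + 1)).hom →ₗ[A] LinearMap.ker (M.d j (j + 1)).hom →ₗ[A]
      (HTor.tensorCx L M).homology n :=
  LinearMap.mk₂ A (fun x y => cl _ n ⟨_, ι_mem_ker L M i j n h x y⟩)
    (fun x x' y => by
      rw [← map_add]; congr 1; refine Subtype.ext ?_
      show ι L M i j n h ((x.1 + x'.1) ⊗ₜ y.1) = _
      rw [TensorProduct.add_tmul, map_add]; rfl)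
    (fun r x y => by
      rw [← map_smul]; congr 1; refine Subtype.ext ?_
      show ι L M i j n h ((r • x.1) ⊗ₜ y.1) = _
      rw [← TensorProduct.smul_tmul', map_smul]; rfl)
    (fun x y y' => by
      rw [← map_add]; congr 1; refine Subtype.ext ?_
      show ι L M i j n h (x.1 ⊗ₜ (y.1 + y'.1)) = _
      rw [TensorProduct.tmul_add, map_add]; rfl)
    (fun r x y => by
      rw [← map_smul]; congr 1; refine Subtype.ext ?_
      show ι L M i j n h (x.1 ⊗ₜ (r • y.1)) = _
      rw [TensorProduct.tmul_smul, map_smul]; rfl)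

theorem prodCl_eq_zero_left (i j n : ℤ) (h : i + j = n) (x : LinearMap.ker (L.d i (i + 1)).hom)
    (y : LinearMap.ker (M.d j (j + 1)).hom) (hx : cl L i x = 0) : prodCl L M i j n h x y = 0 := by
  obtain ⟨n, rfl⟩ : ∃ m, n = m + 1 := ⟨n - 1, by omega⟩
  obtain ⟨i, rfl⟩ : ∃ m, i = m + 1 := ⟨i - 1, by omega⟩
  obtain ⟨u, hu⟩ := (cl_eq_zero_iff L (i + 1) i rfl x).1 hx
  refine (cl_eq_zero_iff _ (n + 1) n rfl _).2 ⟨ι L M i j n (by omega) (u ⊗ₜ y.1), ?_⟩
  show (HTor.tensorCx L M).d n (n + 1) (ι L M i j n _ (u ⊗ₜ y.1)) = ι L M (i + 1) j (n + 1) h (x.1 ⊗ₜ y.1)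
  rw [d_ι, show M.d j (j + 1) y.1 = 0 from y.2, show L.d i (i + 1) u = x.1 from hu]
  simp

theorem prodCl_eq_zero_right (i j n : ℤ) (h : i + j = n) (x : LinearMap.ker (L.d i (i + 1)).hom)
    (y : LinearMap.ker (M.d j (j + 1)).hom) (hy : cl M j y = 0) : prodCl L M i j n h x y = 0 := by
  obtain ⟨n, rfl⟩ : ∃ m, n = m + 1 := ⟨n - 1, by omega⟩
  obtain ⟨j, rfl⟩ : ∃ m, j = m + 1 := ⟨j - 1, by omega⟩
  obtain ⟨v, hv⟩ := (cl_eq_zero_iff M (j + 1) j rfl y).1 hy
  refine (cl_eq_zero_iff _ (n + 1) n rfl _).2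
    ⟨((i.negOnePow : ℤˣ) : ℤ) • ι L M i j n (by omega) (x.1 ⊗ₜ v), ?_⟩
  show (HTor.tensorCx L M).d n (n + 1) (((i.negOnePow : ℤˣ) : ℤ) • ι L M i j n _ (x.1 ⊗ₜ v)) =
    ι L M i (j + 1) (n + 1) h (x.1 ⊗ₜ y.1)
  rw [map_zsmul, d_ι, show L.d i (i + 1) x.1 = 0 from x.2, show M.d j (j + 1) v = y.1 from hv,
    TensorProduct.zero_tmul, map_zero, zero_add, smul_smul, ← Units.val_mul, Int.units_mul_self]
  simp

/-- A right inverse of the class map (not linear). -/
noncomputable def rep (i : ℤ) (h : L.homology i) : LinearMap.ker (L.d i (i + 1)).hom :=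
  Function.surjInv (cl_surjective L i) h

theorem cl_rep (i : ℤ) (h : L.homology i) : cl L i (rep L i h) = h := Function.surjInv_eq _ h

theorem prodCl_congr (i j n : ℤ) (h : i + j = n) {x x' : LinearMap.ker (L.d i (i + 1)).hom}
    {y y' : LinearMap.ker (M.d j (j + 1)).hom} (hx : cl L i x = cl L i x') (hy : cl M j y = cl M j y') :
    prodCl L M i j n h x y = prodCl L M i j n h x' y' := by
  have h1 := prodCl_eq_zero_left L M i j n h (x - x') y (by rw [map_sub, hx, sub_self])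
  have h2 := prodCl_eq_zero_right L M i j n h x' (y - y') (by rw [map_sub, hy, sub_self])
  rw [map_sub, LinearMap.sub_apply, sub_eq_zero] at h1
  rw [map_sub, sub_eq_zero] at h2
  exact h1.trans h2

/-- The product on homology. -/
noncomputable def prodH (i j n : ℤ) (h : i + j = n) :
    L.homology i →ₗ[A] M.homology j →ₗ[A] (HTor.tensorCx L M).homology n :=
  LinearMap.mk₂ A (fun a b => prodCl L M i j n h (rep L i a) (rep M j b))
    (fun a a' b => by
      rw [← LinearMap.add_apply, ← map_add]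
      exact prodCl_congr L M i j n h (by rw [map_add, cl_rep, cl_rep, cl_rep]) rfl)
    (fun r a b => by
      rw [← LinearMap.smul_apply, ← map_smul]
      exact prodCl_congr L M i j n h (by rw [map_smul, cl_rep, cl_rep]) rfl)
    (fun a b b' => by
      rw [← map_add]
      exact prodCl_congr L M i j n h rfl (by rw [map_add, cl_rep, cl_rep, cl_rep]))
    (fun r a b => by
      rw [← map_smul]
      exact prodCl_congr L M i j n h rfl (by rw [map_smul, cl_rep, cl_rep]))

theorem prodH_cl (i j n : ℤ) (h : i + j = n) (x : LinearMap.ker (L.d i (i + 1)).hom)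
    (y : LinearMap.ker (M.d j (j + 1)).hom) :
    prodH L M i j n h (cl L i x) (cl M j y) = cl (HTor.tensorCx L M) n ⟨_, ι_mem_ker L M i j n h x y⟩ :=
  (prodCl_congr L M i j n h (cl_rep L i _) (cl_rep M j _)).trans rfl

/-- The Künneth map. -/
noncomputable def kMap (n : ℤ) : HTor.KunnethSum L M n →ₗ[A] (HTor.tensorCx L M).homology n :=
  DirectSum.toModule A _ _ fun ij => TensorProduct.lift (prodH L M ij.1.1 ij.1.2 n ij.2)

theorem kMap_lof (n : ℤ) (ij : HTor.Antidiag n) (a : L.homology ij.1.1) (b : M.homology ij.1.2) :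
    kMap L M n (DirectSum.lof A (HTor.Antidiag n) _ ij (a ⊗ₜ b)) = prodH L M ij.1.1 ij.1.2 n ij.2 a b := by
  rw [kMap, DirectSum.toModule_lof]
  rfl

theorem isKunnethMap_kMap (n : ℤ) : HTor.IsKunnethMap L M n (kMap L M n) := by
  intro ij z z' w hw
  let x : LinearMap.ker (L.d ij.1.1 (ij.1.1 + 1)).hom := ⟨L.iCycles _ z, FlatCx.d_iCycles L z⟩
  let y : LinearMap.ker (M.d ij.1.2 (ij.1.2 + 1)).hom := ⟨M.iCycles _ z', FlatCx.d_iCycles M z'⟩
  rw [kMap_lof, ← cl_spec L _ x z rfl, ← cl_spec M _ y z' rfl, prodH_cl]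
  exact cl_spec _ n _ w hw

variable {M} {M' : DRing.Cx A}

theorem map_prodH (f : M ⟶ M') (i j n : ℤ) (h : i + j = n) (a : L.homology i) (b : M.homology j) :
    homologyMap (HomologicalComplex.tensorHom (𝟙 L) f) n (prodH L M i j n h a b) =
      prodH L M' i j n h a (homologyMap f j b) := by
  obtain ⟨x, rfl⟩ := cl_surjective L i a
  obtain ⟨y, rfl⟩ := cl_surjective M j b
  let y' : LinearMap.ker (M'.d j (j + 1)).hom := ⟨f.f j y.1, by
    rw [LinearMap.mem_ker]
    show M'.d j (j + 1) (f.f j y.1) = 0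
    rw [hom_comm, show M.d j (j + 1) y.1 = 0 from y.2, map_zero]⟩
  rw [map_cl f j y y' rfl, prodH_cl, prodH_cl]
  exact map_cl _ n _ _ (map_ι L M f i j n h x.1 y.1).symm

/-- The map on Künneth sums induced by a map of complexes in the second variable. -/
noncomputable def sumMap (f : M ⟶ M') (n : ℤ) : HTor.KunnethSum L M n →ₗ[A] HTor.KunnethSum L M' n :=
  DirectSum.lmap fun ij => (homologyMap f ij.1.2).hom.lTensor (L.homology ij.1.1)

theorem map_kMap (f : M ⟶ M') (n : ℤ) (s : HTor.KunnethSum L M n) :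
    homologyMap (HomologicalComplex.tensorHom (𝟙 L) f) n (kMap L M n s) = kMap L M' n (sumMap L f n s) := by
  suffices h : (homologyMap (HomologicalComplex.tensorHom (𝟙 L) f) n).hom ∘ₗ kMap L M n =
      kMap L M' n ∘ₗ sumMap L f n from LinearMap.congr_fun h s
  refine DirectSum.linearMap_ext A fun ij => TensorProduct.ext' fun a b => ?_
  show homologyMap (HomologicalComplex.tensorHom (𝟙 L) f) n (kMap L M n (DirectSum.lof A _ _ ij (a ⊗ₜ b))) =
    kMap L M' n (sumMap L f n (DirectSum.lof A _ _ ij (a ⊗ₜ b)))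
  rw [sumMap, DirectSum.lmap_lof, LinearMap.lTensor_tmul]
  exact (congrArg _ (kMap_lof L M n ij a b)).trans
    ((map_prodH L f _ _ n ij.2 a b).trans (kMap_lof L M' n ij a _).symm)

end Tensor

end Groth.Agent.TorKunneth
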