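import Groth.Agent.TorKunneth.ZeroDiff
import Groth.Agent.TorBalance.LES
import Groth.Agent.DRingKP.KFlat
import Groth.Agent.DRingKP.Tor
import Groth.Agent.KFlat.Exact

/-!
A resolution of a complex `M` by complexes whose Künneth map is bijective.
-/

set_option autoImplicit false
set_option linter.style.haveILetI false
universe u

open CategoryTheory Limits MonoidalCategory HomologicalComplex
open scoped TensorProduct

namespace Groth.Agent.TorKunneth

variable {A : Type u} [CommRing A]

/-- A free module covering `X`, zero when `X` is. -/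
def Fr (X : Type u) [AddCommGroup X] [Module A X] : Type u := {x : X // x ≠ 0} →₀ A

noncomputable instance (X : Type u) [AddCommGroup X] [Module A X] : AddCommGroup (Fr (A := A) X) :=
  inferInstanceAs (AddCommGroup ({x : X // x ≠ 0} →₀ A))
noncomputable instance (X : Type u) [AddCommGroup X] [Module A X] : Module A (Fr (A := A) X) :=
  inferInstanceAs (Module A ({x : X // x ≠ 0} →₀ A))
instance (X : Type u) [AddCommGroup X] [Module A X] : Module.Free A (Fr (A := A) X) :=
  inferInstanceAs (Module.Free A ({x : X // x ≠ 0} →₀ A))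

/-- The covering map. -/
noncomputable def frπ (X : Type u) [AddCommGroup X] [Module A X] : Fr (A := A) X →ₗ[A] X :=
  Finsupp.linearCombination A Subtype.val

theorem frπ_surjective (X : Type u) [AddCommGroup X] [Module A X] : Function.Surjective (frπ (A := A) X) := by
  intro x
  by_cases h : x = 0
  · exact ⟨0, by rw [map_zero, h]⟩
  · exact ⟨Finsupp.single ⟨x, h⟩ 1, (Finsupp.linearCombination_single A 1 _).trans (one_smul A x)⟩

theorem subsingleton_fr (X : Type u) [AddCommGroup X] [Module A X] [Subsingleton X] : Subsingleton (Fr (A := A) X) := by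
  haveI : IsEmpty {x : X // x ≠ 0} := ⟨fun x => x.2 (Subsingleton.elim _ _)⟩
  exact inferInstanceAs (Subsingleton ({x : X // x ≠ 0} →₀ A))

variable (M : DRing.Cx A)

theorem exists_lift (j : ℤ) : ∃ ζ : Fr (A := A) (M.homology j) →ₗ[A] LinearMap.ker (M.d j (j + 1)).hom,
    cl M j ∘ₗ ζ = frπ (M.homology j) :=
  Module.projective_lifting_property (cl M j) (frπ _) (cl_surjective M j)

/-- A lift of generators of homology to cycles. -/
noncomputable def ζ (j : ℤ) : Fr (A := A) (M.homology j) →ₗ[A] LinearMap.ker (M.d j (j + 1)).hom :=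
  (exists_lift M j).choose

theorem cl_ζ (j : ℤ) (x : Fr (A := A) (M.homology j)) : cl M j (ζ M j x) = frπ _ x :=
  LinearMap.congr_fun (exists_lift M j).choose_spec x

/-- The zero-differential free complex on generators of homology. -/
noncomputable def WF : DRing.Cx A :=
  CochainComplex.of (fun j => ModuleCat.of A (Fr (A := A) (M.homology j))) (fun _ => 0) (fun _ => by simp)

theorem WF_d (j : ℤ) : (WF M).d j (j + 1) = 0 :=
  CochainComplex.of_d (fun j => ModuleCat.of A (Fr (A := A) (M.homology j))) (fun _ => 0) j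

instance (j : ℤ) : Module.Flat A ((WF M).X j) :=
  inferInstanceAs (Module.Flat A (Fr (A := A) (M.homology j)))

/-- Terms of the covering complex. -/
abbrev CovT (j : ℤ) : Type u :=
  Fr (A := A) (M.homology j) × Fr (A := A) (M.X (j + 1 - 1)) × Fr (A := A) (M.X (j - 1))

/-- The covering complex: the generators of homology plus contractible disks. -/
noncomputable def WC : DRing.Cx A :=
  CochainComplex.of (fun j => ModuleCat.of A (CovT M j))
    (fun j => ModuleCat.ofHom (LinearMap.prod 0 (LinearMap.prod 0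
      (LinearMap.fst A _ _ ∘ₗ LinearMap.snd A (Fr (A := A) (M.homology j)) _))))
    (fun j => ModuleCat.hom_ext (LinearMap.ext fun x => rfl))

theorem WC_d (j : ℤ) (x : CovT M j) : (WC M).d j (j + 1) x = ((0, 0, x.2.1) : CovT M (j + 1)) := by
  have h : (WC M).d j (j + 1) = ModuleCat.ofHom (LinearMap.prod 0 (LinearMap.prod 0
      (LinearMap.fst A _ _ ∘ₗ LinearMap.snd A (Fr (A := A) (M.homology j)) _))) :=
    CochainComplex.of_d (fun j => ModuleCat.of A (CovT M j)) (fun j => ModuleCat.ofHom (LinearMap.prod 0 (LinearMap.prod 0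
      (LinearMap.fst A _ _ ∘ₗ LinearMap.snd A (Fr (A := A) (M.homology j)) _)))) j
  rw [h]
  rfl

theorem eqToHom_d {j k : ℤ} (h : k = j) (l : ℤ) (x : M.X k) :
    M.d j l (eqToHom (congrArg M.X h) x) = M.d k l x := by
  subst h
  rfl

/-- The covering map in one degree. -/
noncomputable def covF (j : ℤ) : CovT M j →ₗ[A] M.X j :=
  LinearMap.coprod ((LinearMap.ker (M.d j (j + 1)).hom).subtype ∘ₗ ζ M j)
    (LinearMap.coprod ((eqToHom (congrArg M.X (Int.add_sub_cancel j 1))).hom ∘ₗ frπ _)
      ((M.d (j - 1) j).hom ∘ₗ frπ _))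

theorem covF_apply (j : ℤ) (x : CovT M j) :
    covF M j x = (ζ M j x.1).1 + (eqToHom (congrArg M.X (Int.add_sub_cancel j 1)) (frπ _ x.2.1) +
      M.d (j - 1) j (frπ _ x.2.2)) := rfl

/-- The covering map. -/
noncomputable def φ : WC M ⟶ M where
  f j := ModuleCat.ofHom (covF M j)
  comm' i j hij := by
    obtain rfl : i + 1 = j := hij
    refine ModuleCat.hom_ext (LinearMap.ext fun (x : CovT M i) => ?_)
    show M.d i (i + 1) (covF M i x) = covF M (i + 1) ((WC M).d i (i + 1) x)
    rw [WC_d]
    refine Eq.trans ?_ (covF_apply M (i + 1) _).symm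
    show _ = (ζ M (i + 1) 0).1 + (eqToHom (congrArg M.X (Int.add_sub_cancel (i + 1) 1)) (frπ _ 0) + M.d (i + 1 - 1) (i + 1) (frπ _ x.2.1))
    rw [covF_apply, map_add, map_add, show M.d i (i + 1) (ζ M i x.1).1 = 0 from (ζ M i x.1).2,
      eqToHom_d M (Int.add_sub_cancel i 1), d_d_apply]
    simp

theorem φ_surjective (j : ℤ) : Function.Surjective ((φ M).f j) := by
  intro y
  let e : M.X (j + 1 - 1) ≅ M.X j := eqToIso (congrArg M.X (Int.add_sub_cancel j 1))
  obtain ⟨a, ha⟩ := frπ_surjective (A := A) (M.X (j + 1 - 1)) (e.inv y)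
  refine ⟨((0, a, 0) : CovT M j), ?_⟩
  show covF M j _ = y
  rw [covF_apply]
  show (ζ M j 0).1 + (e.hom (frπ _ a) + M.d (j - 1) j (frπ _ 0)) = y
  rw [map_zero, map_zero, map_zero, ha, ← ConcreteCategory.comp_apply, e.inv_hom_id]
  simp

/-- The projection to the generators. -/
noncomputable def pr : WC M ⟶ WF M where
  f j := ModuleCat.ofHom (LinearMap.fst A (Fr (A := A) (M.homology j)) _)
  comm' i j hij := by
    obtain rfl : i + 1 = j := hij
    refine ModuleCat.hom_ext (LinearMap.ext fun (x : CovT M i) => ?_)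
    show (WF M).d i (i + 1) x.1 = ((WC M).d i (i + 1) x : CovT M (i + 1)).1
    rw [WC_d, WF_d]
    rfl

instance : QuasiIso (pr M) where
  quasiIsoAt i := by
    rw [quasiIsoAt_iff_isIso_homologyMap, ConcreteCategory.isIso_iff_bijective]
    refine ⟨(FlatCx.homologyMap_injective_iff (pr M) (CochainComplex.prev ℤ i) (CochainComplex.next ℤ i)).2 ?_,
      (FlatCx.homologyMap_surjective_iff (pr M) (CochainComplex.prev ℤ i) (CochainComplex.next ℤ i)).2 ?_⟩
    · obtain ⟨k, rfl⟩ : ∃ k, i = k + 1 := ⟨i - 1, by omega⟩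
      rw [Int.add_sub_cancel]
      rintro (z : CovT M (k + 1)) hz ⟨v, hv⟩
      rw [WC_d] at hz
      have ha : z.2.1 = 0 := congrArg (fun p : CovT M (k + 1 + 1) => p.2.2) hz
      have hf : z.1 = 0 := by
        refine (hv.symm.trans ?_ : (z.1 : (WF M).X (k + 1)) = 0)
        rw [WF_d]
        rfl
      refine ⟨((0, z.2.2, 0) : CovT M k), ?_⟩
      show (WC M).d k (k + 1) _ = z
      rw [WC_d]
      exact Prod.ext hf.symm (Prod.ext ha.symm rfl)
    · rintro (z : Fr (A := A) (M.homology i)) -
      refine ⟨((z, 0, 0) : CovT M i), ?_, ?_⟩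
      · rw [WC_d]; rfl
      · show z - z ∈ _
        rw [sub_self]
        exact zero_mem _

/-- The next complex of the resolution. -/
noncomputable def nxt : DRing.Cx A := kernel (φ M)

/-- The defining sequence of the next complex. -/
noncomputable def stp : ShortComplex (DRing.Cx A) := ShortComplex.mk (kernel.ι (φ M)) (φ M) (kernel.condition _)

theorem shortExact_stp : (stp M).ShortExact where
  exact := ShortComplex.exact_of_f_is_kernel _ (kernelIsKernel _)
  mono_f := inferInstanceAs (Mono (kernel.ι (φ M)))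
  epi_g := by
    haveI : ∀ j, Epi ((φ M).f j) := fun j => (ModuleCat.epi_iff_surjective _).2 (φ_surjective M j)
    exact HomologicalComplex.epi_of_epi_f (φ M) inferInstance

theorem homologyMap_pr_bijective (j : ℤ) : Function.Bijective (homologyMap (pr M) j) :=
  ConcreteCategory.bijective_of_isIso (homologyMap (pr M) j)

theorem homologyMap_φ_surjective (j : ℤ) : Function.Surjective (homologyMap (φ M) j) := by
  intro h
  obtain ⟨a, rfl⟩ := frπ_surjective (A := A) (M.homology j) h
  let z : LinearMap.ker ((WC M).d j (j + 1)).hom := ⟨((a, 0, 0) : CovT M j), by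
    show (WC M).d j (j + 1) _ = 0
    rw [WC_d]; rfl⟩
  refine ⟨cl (WC M) j z, ?_⟩
  rw [map_cl (φ M) j z (ζ M j a), cl_ζ]
  show (ζ M j a).1 = covF M j ((a, 0, 0) : CovT M j)
  rw [covF_apply]
  simp

theorem subsingleton_homology_nxt (j : ℤ) [Subsingleton (M.homology j)] (h : IsZero (M.homology (j - 1))) :
    Subsingleton ((nxt M).homology j) := by
  haveI : Subsingleton ((WC M).homology j) := by
    haveI : Subsingleton ((WF M).X j) := subsingleton_fr (A := A) (M.homology j)
    haveI : Subsingleton ((WF M).homology j) := (cl_surjective (WF M) j).subsingleton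
    exact (homologyMap_pr_bijective M j).1.subsingleton
  have h1 := (shortExact_stp M).homology_exact₁ (j - 1) j (by simp)
  have hm := h1.mono_g (h.eq_of_src _ _)
  exact ((ModuleCat.mono_iff_injective _).1 hm).subsingleton (β := (WC M).homology j)

variable (L : DRing.Cx A)

theorem shortExact_tens_stp (hL : DRing.TermwiseFlat L) :
    ((stp M).map ((KFlat.tens (DRingKP.tB A)).obj L)).ShortExact := by
  refine KFlat.shortExact_tens_obj (B := DRingKP.tB A) L (stp M) fun p q => ?_
  haveI := hL p
  exact TorBalance.shortExact_tens (L.X p) ((shortExact_stp M).map_of_exact (eval (ModuleCat.{u} A) _ q))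

theorem quasiIso_tens (hK : DRingKP.IsKFlat L) {X Y : DRing.Cx A} (f : X ⟶ Y) [QuasiIso f] :
    QuasiIso (HomologicalComplex.tensorHom (𝟙 L) f) :=
  KFlat.quasiIso_obj_map_of_acyclic (B := DRingKP.tB A) L f
    (KFlat.acyclic_of_iso (KFlat.swapIso (DRingKP.tBraid A) _ _)
      (((DRingKP.rflat_iff L).2 hK) _ (KFlat.mappingCone_acyclic f)))

theorem kMap_WC_bijective (hK : DRingKP.IsKFlat L) (n : ℤ) : Function.Bijective (kMap L (WC M) n) := by
  haveI := quasiIso_tens L hK (pr M)
  have h1 : Function.Bijective (homologyMap (HomologicalComplex.tensorHom (𝟙 L) (pr M)) n) :=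
    ConcreteCategory.bijective_of_isIso _
  have h2 : Function.Bijective (sumMap L (pr M) n) := by
    have hb : ∀ ij : HTor.Antidiag n,
        Function.Bijective ((homologyMap (pr M) ij.1.2).hom.lTensor (L.homology ij.1.1)) := fun ij =>
      ((LinearEquiv.ofBijective (homologyMap (pr M) ij.1.2).hom (homologyMap_pr_bijective M _)).lTensor _).bijective
    exact ⟨(DirectSum.lmap_injective _).2 fun ij => (hb ij).1, (DirectSum.lmap_surjective _).2 fun ij => (hb ij).2⟩
  have h3 : Function.Bijective (kMap L (WF M) n) :=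
    ⟨kMap_injective L (WF M) (WF_d M) n, kMap_surjective L (WF M) (WF_d M) n⟩
  refine (Function.Bijective.of_comp_iff' h1 _).1 ?_
  rw [show (homologyMap (HomologicalComplex.tensorHom (𝟙 L) (pr M)) n) ∘ (kMap L (WC M) n) =
    kMap L (WF M) n ∘ sumMap L (pr M) n from funext (map_kMap L (pr M) n)]
  exact h3.comp h2

theorem range_map_φ (hK : DRingKP.IsKFlat L) (n : ℤ) :
    LinearMap.range (homologyMap (HomologicalComplex.tensorHom (𝟙 L) (φ M)) n).hom =
      LinearMap.range (kMap L M n) := by
  have hs : Function.Surjective (sumMap L (φ M) n) :=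
    (DirectSum.lmap_surjective _).2 fun ij => LinearMap.lTensor_surjective _ (homologyMap_φ_surjective M _)
  ext t
  constructor
  · rintro ⟨w, rfl⟩
    obtain ⟨s, rfl⟩ := (kMap_WC_bijective M L hK n).2 w
    exact ⟨_, (map_kMap L (φ M) n s).symm⟩
  · rintro ⟨s, rfl⟩
    obtain ⟨s', rfl⟩ := hs s
    exact ⟨_, map_kMap L (φ M) n s'⟩

end Groth.Agent.TorKunneth
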