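import Groth.Agent.TorKunneth.Basic

/-!
The Künneth map is bijective when the second complex has zero differential and flat terms.
-/

set_option autoImplicit false
set_option linter.style.haveILetI false
universe u

open CategoryTheory Limits MonoidalCategory HomologicalComplex
open scoped TensorProduct

namespace Groth.Agent.TorKunneth

variable {A : Type u} [CommRing A] (L W : DRing.Cx A)

/-- Projection of a degree of the tensor product to a summand, as a morphism. -/
noncomputable def projHom (i j n : ℤ) (h : i + j = n) :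
    (HTor.tensorCx L W).X n ⟶ ModuleCat.of A (L.X i ⊗[A] W.X j) :=
  mapBifunctorDesc (K₁ := L) (K₂ := W) (F := curriedTensor (ModuleCat.{u} A)) (c := ComplexShape.up ℤ)
    (A := ModuleCat.of A (L.X i ⊗[A] W.X j)) fun k l (hkl : k + l = n) =>
    if hk : k = i then eqToHom (by
      have hl : l = j := by omega
      subst hk hl
      rfl) else 0

/-- Projection of a degree of the tensor product to a summand. -/
noncomputable def proj (i j n : ℤ) (h : i + j = n) : (HTor.tensorCx L W).X n →ₗ[A] L.X i ⊗[A] W.X j :=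
  (projHom L W i j n h).hom

theorem proj_ι_self (i j n : ℤ) (h : i + j = n) (z : L.X i ⊗[A] W.X j) :
    proj L W i j n h (ι L W i j n h z) = z := by
  show (ιTensorObj L W i j n h ≫ projHom L W i j n h).hom z = z
  rw [projHom, ι_mapBifunctorDesc, dif_pos rfl]
  rfl

theorem proj_ι_of_ne (i j n : ℤ) (h : i + j = n) (k l : ℤ) (h' : k + l = n) (hne : k ≠ i)
    (z : L.X k ⊗[A] W.X l) : proj L W i j n h (ι L W k l n h' z) = 0 := by
  show (ιTensorObj L W k l n h' ≫ projHom L W i j n h).hom z = 0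
  rw [projHom, ι_mapBifunctorDesc, dif_neg hne]
  rfl

theorem iSup_range_ι (n : ℤ) :
    (⨆ ij : HTor.Antidiag n, LinearMap.range (ι L W ij.1.1 ij.1.2 n ij.2)) = ⊤ := by
  let S : Submodule A ((HTor.tensorCx L W).X n) := ⨆ ij : HTor.Antidiag n, LinearMap.range (ι L W ij.1.1 ij.1.2 n ij.2)
  have h : (ModuleCat.ofHom S.mkQ : (HTor.tensorCx L W).X n ⟶ ModuleCat.of A (_ ⧸ S)) = 0 := by
    refine mapBifunctor.hom_ext fun i j hij => ModuleCat.hom_ext (LinearMap.ext fun z => ?_)
    exact (Submodule.Quotient.mk_eq_zero _).2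
      (Submodule.mem_iSup_of_mem (⟨(i, j), hij⟩ : HTor.Antidiag n) ⟨z, rfl⟩)
  exact (eq_top_iff).2 fun z _ => (Submodule.Quotient.mk_eq_zero _).1 (congrArg (fun φ => φ.hom z) h)

theorem tensor_induction {n : ℤ} {motive : (HTor.tensorCx L W).X n → Prop} (z : (HTor.tensorCx L W).X n)
    (mem : ∀ (i j : ℤ) (h : i + j = n) (w : L.X i ⊗[A] W.X j), motive (ι L W i j n h w))
    (zero : motive 0) (add : ∀ a b, motive a → motive b → motive (a + b)) : motive z := by
  have hz : z ∈ (⨆ ij : HTor.Antidiag n, LinearMap.range (ι L W ij.1.1 ij.1.2 n ij.2)) := by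
    rw [iSup_range_ι]; exact Submodule.mem_top
  induction hz using Submodule.iSup_induction' with
  | mem ij x hx => obtain ⟨w, rfl⟩ := hx; exact mem _ _ _ w
  | zero => exact zero
  | add a b _ _ ha hb => exact add a b ha hb

variable (hW : ∀ j, W.d j (j + 1) = 0)

include hW in
theorem d_ι_zeroDiff (i j n : ℤ) (h : i + j = n) (w : L.X i ⊗[A] W.X j) :
    (HTor.tensorCx L W).d n (n + 1) (ι L W i j n h w) =
      ι L W (i + 1) j (n + 1) (by omega) ((L.d i (i + 1)).hom.rTensor (W.X j) w) := by
  induction w with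
  | zero => simp
  | tmul x y =>
    rw [d_ι, LinearMap.rTensor_tmul, hW j]
    show _ + _ • ι L W i (j + 1) (n + 1) _ (x ⊗ₜ 0) = _
    rw [TensorProduct.tmul_zero, map_zero, smul_zero, add_zero]
  | add a b ha hb => rw [map_add, map_add, ha, hb, map_add, map_add]

include hW in
theorem proj_d (i j n : ℤ) (h : i + j = n) (z : (HTor.tensorCx L W).X n) :
    proj L W (i + 1) j (n + 1) (by omega) ((HTor.tensorCx L W).d n (n + 1) z) =
      (L.d i (i + 1)).hom.rTensor (W.X j) (proj L W i j n h z) := by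
  induction z using tensor_induction L W with
  | mem k l hkl w =>
    rw [d_ι_zeroDiff L W hW]
    by_cases hk : k = i
    · subst hk
      obtain rfl : l = j := by omega
      rw [proj_ι_self, proj_ι_self]
    · rw [proj_ι_of_ne _ _ _ _ _ _ k l hkl hk, proj_ι_of_ne _ _ _ _ _ _ (k + 1) l (by omega) (by omega), map_zero]
  | zero => simp
  | add a b ha hb => simp only [map_add, ha, hb]

/-- Descend a map on cycles to homology. -/
noncomputable def descH (K : DRing.Cx A) (i : ℤ) {T : Type u} [AddCommGroup T] [Module A T]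
    (φ : LinearMap.ker (K.d i (i + 1)).hom →ₗ[A] T) (h : ∀ z, cl K i z = 0 → φ z = 0) : K.homology i →ₗ[A] T :=
  (LinearMap.ker (cl K i)).liftQ φ (fun z hz => h z hz) ∘ₗ
    ((cl K i).quotKerEquivOfSurjective (cl_surjective K i)).symm.toLinearMap

theorem descH_cl (K : DRing.Cx A) (i : ℤ) {T : Type u} [AddCommGroup T] [Module A T]
    (φ : LinearMap.ker (K.d i (i + 1)).hom →ₗ[A] T) (h : ∀ z, cl K i z = 0 → φ z = 0)
    (z : LinearMap.ker (K.d i (i + 1)).hom) : descH K i φ h (cl K i z) = φ z := by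
  have e : ((cl K i).quotKerEquivOfSurjective (cl_surjective K i)).symm (cl K i z) = Submodule.Quotient.mk z := by
    rw [LinearEquiv.symm_apply_eq]
    rfl
  show (LinearMap.ker (cl K i)).liftQ φ (fun w hw => h w hw) _ = _
  exact (congrArg _ e).trans rfl

/-- The inclusion of homology into the quotient by boundaries. -/
noncomputable def toOpc (i : ℤ) : L.homology i →ₗ[A] L.X i ⧸ LinearMap.range (L.d (i - 1) i).hom :=
  descH L i ((LinearMap.range (L.d (i - 1) i).hom).mkQ ∘ₗ (LinearMap.ker (L.d i (i + 1)).hom).subtype)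
    fun z hz => (Submodule.Quotient.mk_eq_zero _).2 ((cl_eq_zero_iff L i (i - 1) (by omega) z).1 hz)

theorem toOpc_cl (i : ℤ) (z : LinearMap.ker (L.d i (i + 1)).hom) :
    toOpc L i (cl L i z) = Submodule.Quotient.mk z.1 :=
  descH_cl L i _ _ z

theorem toOpc_injective (i : ℤ) : Function.Injective (toOpc L i) := by
  refine (injective_iff_map_eq_zero _).2 fun a ha => ?_
  obtain ⟨z, rfl⟩ := cl_surjective L i a
  rw [toOpc_cl, Submodule.Quotient.mk_eq_zero] at ha
  exact (cl_eq_zero_iff L i (i - 1) (by omega) z).2 ha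

include hW

/-- The class map on a complex with zero differential. -/
noncomputable def clW (j : ℤ) : W.X j →ₗ[A] W.homology j :=
  cl W j ∘ₗ LinearMap.id.codRestrict _ (fun y => by
    show W.d j (j + 1) y = 0
    rw [hW j]
    rfl)

/-- The inverse of `clW`. -/
noncomputable def clWInv (j : ℤ) : W.homology j →ₗ[A] W.X j :=
  descH W j (LinearMap.ker (W.d j (j + 1)).hom).subtype fun z hz => by
    obtain ⟨k, rfl⟩ : ∃ k, j = k + 1 := ⟨j - 1, by omega⟩
    obtain ⟨u, hu⟩ := (cl_eq_zero_iff W (k + 1) k rfl z).1 hz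
    show z.1 = 0
    rw [← hu, hW k]
    rfl

theorem clWInv_clW (j : ℤ) (y : W.X j) : clWInv W hW j (clW W hW j y) = y := descH_cl W j _ _ _

theorem clW_clWInv (j : ℤ) (b : W.homology j) : clW W hW j (clWInv W hW j b) = b := by
  obtain ⟨z, rfl⟩ := cl_surjective W j b
  rw [clWInv, descH_cl]
  rfl

/-- The component of a class. -/
noncomputable def comp (i j n : ℤ) (h : i + j = n) :
    (HTor.tensorCx L W).homology n →ₗ[A] (L.X i ⧸ LinearMap.range (L.d (i - 1) i).hom) ⊗[A] W.X j :=
  descH _ n ((LinearMap.range (L.d (i - 1) i).hom).mkQ.rTensor (W.X j) ∘ₗ proj L W i j n h ∘ₗ Submodule.subtype _)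
    fun z hz => by
      obtain ⟨n, rfl⟩ : ∃ m, n = m + 1 := ⟨n - 1, by omega⟩
      obtain ⟨i, rfl⟩ : ∃ m, i = m + 1 := ⟨i - 1, by omega⟩
      obtain ⟨u, hu⟩ := (cl_eq_zero_iff _ (n + 1) n rfl z).1 hz
      show (LinearMap.range (L.d (i + 1 - 1) (i + 1)).hom).mkQ.rTensor (W.X j)
        (proj L W (i + 1) j (n + 1) h z.1) = 0
      rw [← hu, proj_d L W hW i j n (by omega), ← LinearMap.comp_apply, ← LinearMap.rTensor_comp,
        Int.add_sub_cancel, LinearMap.range_mkQ_comp, LinearMap.rTensor_zero]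
      rfl

theorem comp_kMap (i j n : ℤ) (h : i + j = n) (s : HTor.KunnethSum L W n) :
    comp L W hW i j n h (kMap L W n s) =
      TensorProduct.map (toOpc L i) (clWInv W hW j)
        (DirectSum.component A (HTor.Antidiag n) _ ⟨(i, j), h⟩ s) := by
  suffices e : comp L W hW i j n h ∘ₗ kMap L W n =
      TensorProduct.map (toOpc L i) (clWInv W hW j) ∘ₗ DirectSum.component A (HTor.Antidiag n) _ ⟨(i, j), h⟩ from
    LinearMap.congr_fun e s
  refine DirectSum.linearMap_ext A fun kl => TensorProduct.ext' fun a b => ?_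
  obtain ⟨⟨k, l⟩, hkl⟩ := kl
  obtain ⟨x, rfl⟩ := cl_surjective L k a
  obtain ⟨y, rfl⟩ := cl_surjective W l b
  show comp L W hW i j n h (kMap L W n (DirectSum.lof A (HTor.Antidiag n) (fun p => L.homology p.1.1 ⊗[A] W.homology p.1.2) ⟨(k, l), hkl⟩ (cl L k x ⊗ₜ cl W l y))) =
    TensorProduct.map (toOpc L i) (clWInv W hW j) (DirectSum.component A (HTor.Antidiag n) _ ⟨(i, j), h⟩
      (DirectSum.lof A (HTor.Antidiag n) (fun p => L.homology p.1.1 ⊗[A] W.homology p.1.2) ⟨(k, l), hkl⟩ (cl L k x ⊗ₜ cl W l y)))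
  rw [kMap_lof]
  refine (congrArg _ (prodH_cl L W k l n hkl x y)).trans ((descH_cl _ n _ _ _).trans ?_)
  show (LinearMap.range (L.d (i - 1) i).hom).mkQ.rTensor (W.X j) (proj L W i j n h (ι L W k l n hkl (x.1 ⊗ₜ y.1))) = _
  by_cases hk : k = i
  · subst hk
    obtain rfl : l = j := by omega
    rw [proj_ι_self, DirectSum.component.lof_self, TensorProduct.map_tmul, toOpc_cl, clWInv, descH_cl]
    rfl
  · rw [proj_ι_of_ne _ _ _ _ _ _ k l hkl hk, DirectSum.component.of,
      dif_neg (fun e => hk (congrArg (fun p => p.1.1) e)), map_zero, map_zero]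

variable [∀ j, Module.Flat A (W.X j)]

theorem kMap_injective (n : ℤ) : Function.Injective (kMap L W n) := by
  refine (injective_iff_map_eq_zero _).2 fun s hs => DirectSum.ext_component A fun ij => ?_
  obtain ⟨⟨i, j⟩, h⟩ := ij
  have h0 := comp_kMap L W hW i j n h s
  rw [hs, map_zero] at h0
  have hinj : Function.Injective (TensorProduct.map (toOpc L i) (clWInv W hW j)) := by
    rw [show TensorProduct.map (toOpc L i) (clWInv W hW j) =
      (toOpc L i).rTensor (W.X j) ∘ₗ (clWInv W hW j).lTensor (L.homology i) from TensorProduct.ext' fun a b => rfl]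
    let e : W.homology j ≃ₗ[A] W.X j := LinearEquiv.ofLinearMap (clWInv W hW j) (clW W hW j)
      (LinearMap.ext (clWInv_clW W hW j)) (LinearMap.ext (clW_clWInv W hW j))
    exact (Module.Flat.rTensor_preserves_injective_linearMap (toOpc L i) (toOpc_injective L i)).comp
      (e.lTensor (L.homology i)).injective
  rw [map_zero]
  exact hinj (h0.symm.trans (map_zero _).symm)

theorem kMap_surjective (n : ℤ) : Function.Surjective (kMap L W n) := fun t => by
  obtain ⟨z, rfl⟩ := cl_surjective _ n t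
  suffices key : ∀ (T : Finset (HTor.Antidiag n)) (z : LinearMap.ker ((HTor.tensorCx L W).d n (n + 1)).hom),
      z.1 ∈ (⨆ ij ∈ T, LinearMap.range (ι L W ij.1.1 ij.1.2 n ij.2)) → cl _ n z ∈ LinearMap.range (kMap L W n) by
    have hz : z.1 ∈ (⨆ ij : HTor.Antidiag n, LinearMap.range (ι L W ij.1.1 ij.1.2 n ij.2)) := by
      rw [iSup_range_ι]; exact Submodule.mem_top
    obtain ⟨T, hT⟩ := Submodule.exists_finset_of_mem_iSup _ hz
    exact key T z hT
  intro T
  classical
  induction T using Finset.induction_on with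
  | empty =>
    intro z hz
    obtain rfl : z = 0 := Subtype.ext (by simpa using hz)
    rw [map_zero]
    exact zero_mem _
  | insert ij T hij ih =>
    intro z hz
    rw [Finset.iSup_insert, Submodule.mem_sup] at hz
    obtain ⟨_, ⟨w, rfl⟩, r, hr, hz⟩ := hz
    obtain ⟨⟨i, j⟩, h⟩ := ij
    have hr0 : proj L W i j n h r = 0 := by
      refine (Submodule.mem_comap (f := proj L W i j n h) (p := ⊥)).1 ?_
      refine (iSup₂_le fun kl hkl => ?_ : (⨆ kl ∈ T, LinearMap.range (ι L W kl.1.1 kl.1.2 n kl.2)) ≤ _) hr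
      rintro _ ⟨v, rfl⟩
      show proj L W i j n h (ι L W kl.1.1 kl.1.2 n kl.2 v) = 0
      refine proj_ι_of_ne _ _ _ _ _ _ _ _ _ (fun e => hij ?_) v
      have e2 : kl.1.2 = j := by have := kl.2; omega
      rwa [show (⟨(i, j), h⟩ : HTor.Antidiag n) = kl from Subtype.ext (Prod.ext e.symm e2.symm)]
    have hdz : (HTor.tensorCx L W).d n (n + 1) z.1 = 0 := z.2
    have hproj : proj L W i j n h z.1 = w := by
      rw [← hz, map_add, proj_ι_self, hr0, add_zero]
    have hw : (L.d i (i + 1)).hom.rTensor (W.X j) w = 0 := by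
      rw [← hproj, ← proj_d L W hW i j n h, hdz, map_zero]
    obtain ⟨v, hv⟩ := (Module.Flat.rTensor_exact (W.X j) (LinearMap.exact_subtype_ker_map (L.d i (i + 1)).hom) w).1 hw
    have hιw : ι L W i j n h w ∈ LinearMap.ker ((HTor.tensorCx L W).d n (n + 1)).hom := by
      show (HTor.tensorCx L W).d n (n + 1) (ι L W i j n h w) = 0
      rw [d_ι_zeroDiff L W hW, hw, map_zero]
    have hsplit : z = ⟨ι L W i j n h w, hιw⟩ + (z - ⟨ι L W i j n h w, hιw⟩) := by abel
    rw [hsplit, map_add]
    refine add_mem ?_ (ih _ ?_)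
    · subst hv
      clear hsplit hproj hw hz
      induction v with
      | zero =>
        rw [show (⟨_, hιw⟩ : LinearMap.ker ((HTor.tensorCx L W).d n (n + 1)).hom) = 0 from Subtype.ext (by simp),
          map_zero]
        exact zero_mem _
      | tmul x y =>
        refine ⟨DirectSum.lof A (HTor.Antidiag n) _ ⟨(i, j), h⟩ (cl L i x ⊗ₜ clW W hW j y), ?_⟩
        rw [kMap_lof]
        exact (prodH_cl L W i j n h x _).trans rfl
      | add a b ha hb =>
        have hmem : ∀ c : LinearMap.ker (L.d i (i + 1)).hom ⊗[A] W.X j,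
            ι L W i j n h ((LinearMap.ker (L.d i (i + 1)).hom).subtype.rTensor (W.X j) c) ∈
              LinearMap.ker ((HTor.tensorCx L W).d n (n + 1)).hom := fun c => by
          show (HTor.tensorCx L W).d n (n + 1) _ = 0
          have h0 : (L.d i (i + 1)).hom.rTensor (W.X j) ((LinearMap.ker (L.d i (i + 1)).hom).subtype.rTensor (W.X j) c) = 0 := by
            rw [← LinearMap.comp_apply, ← LinearMap.rTensor_comp, LinearMap.comp_ker_subtype, LinearMap.rTensor_zero]
            rfl
          rw [d_ι_zeroDiff L W hW, h0, map_zero]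
        rw [show (⟨_, hιw⟩ : LinearMap.ker ((HTor.tensorCx L W).d n (n + 1)).hom) = ⟨_, hmem a⟩ + ⟨_, hmem b⟩
          from Subtype.ext (by simp), map_add]
        exact add_mem (ha (hmem a)) (hb (hmem b))
    · show z.1 - ι L W i j n h w ∈ _
      rw [← hz, add_sub_cancel_left]
      exact hr

end Groth.Agent.TorKunneth
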